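import Groth.Agent.H14Ga.Torsor
import Groth.Agent.H14Lift.ThetaAffine
import Groth.Agent.H13AlgSp.RelRep

/-!
# Torsors under the additive group need not extend over the node
-/

set_option autoImplicit false
set_option linter.unusedVariables false
set_option backward.isDefEq.respectTransparency false
set_option backward.isDefEq.respectTransparency.types false

universe u

open CategoryTheory CategoryTheory.Limits MonoidalCategory CartesianMonoidalCategory MonObj GrpObj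
open AlgebraicGeometry Opposite
open scoped TensorProduct

noncomputable section

namespace Groth.Agent.H14Ga

open H14Fib H14Quot H14Lift

variable {R : Type u} [CommRing R] (π : R)

local notation "K₀" => Scheme.fppfPrecoverage
local notation "B₀" => ThetaS.STRing R π

/-- The structure morphism of the two-branched curve. -/
abbrev stStr : Spec (CommRingCat.of B₀) ⟶ Spec (CommRingCat.of R) :=
  Spec.map (CommRingCat.ofHom (algebraMap R B₀))

/-- The locus where an element of the coordinate ring is invertible. -/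
abbrev DX (q : B₀) : (Spec (CommRingCat.of B₀)).Opens :=
  (Spec (CommRingCat.of B₀)).basicOpen ((Scheme.ΓSpecIso (CommRingCat.of B₀)).inv q)

variable {π}

lemma stSides {Y : Scheme.{u}} (f : Y ⟶ Spec (CommRingCat.of B₀))
    (hcov : ∀ y, f y ∈ DX π (ThetaS.sFn R π) ∨ f y ∈ DX π (ThetaS.tFn R π)) :
    Sides (f ≫ stStr π) π (f ⁻¹ᵁ DX π (ThetaS.sFn R π)) (f ⁻¹ᵁ DX π (ThetaS.tFn R π)) := by
  refine ⟨hcov, fun x h₁ h₂ => ?_⟩
  rw [preimage_basicOpen_pt, mem_basicOpen_iff] at h₁ h₂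
  rw [mem_Dπ, pt_comp_map, RingHom.comp_apply, ← ThetaS.sFn_mul_tFn, map_mul, map_mul]
  exact h₁.mul h₂

/-- The map to the doubled spectrum from a scheme mapping to the punctured curve. -/
def gU {Y : Scheme.{u}} (f : Y ⟶ Spec (CommRingCat.of B₀))
    (hcov : ∀ y, f y ∈ DX π (ThetaS.sFn R π) ∨ f y ∈ DX π (ThetaS.tFn R π)) : Y ⟶ DL π :=
  side (stSides f hcov)

lemma comp_gU {Y W : Scheme.{u}} (g : W ⟶ Y) (f : Y ⟶ Spec (CommRingCat.of B₀))
    (hcov : ∀ y, f y ∈ DX π (ThetaS.sFn R π) ∨ f y ∈ DX π (ThetaS.tFn R π))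
    {f' : W ⟶ Spec (CommRingCat.of B₀)} (hf : g ≫ f = f') :
    g ≫ gU f hcov = gU f' (by subst hf; exact fun w => hcov (g w)) := by
  subst hf
  exact comp_side _ g (Category.assoc _ _ _).symm rfl rfl (stSides (g ≫ f) fun w => hcov (g w))

lemma side_eq_of {Y : Scheme.{u}} {r r' : Y ⟶ Spec (CommRingCat.of R)} {V₁ V₂ V₁' V₂' : Y.Opens}
    (h : Sides r π V₁ V₂) (h' : Sides r' π V₁' V₂') (hr : r = r') (h₁ : V₁ = V₁') (h₂ : V₂ = V₂') :
    side h = side h' := by
  subst hr h₁ h₂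
  rfl

/-- A locus where a semi-invariant function is invertible is invariant under the action. -/
lemma preimage_semiInvariant {B : Type u} [CommRing B] [Algebra R B]
    (aX : AlgGrp.Action (ThetaS.Gm R) (CoactBr.sp R B)) (q : B) (ξ : B →ₐ[R] B ⊗[R] ThetaS.Lau R)
    (hξ : lift (CoactBr.pt (Algebra.TensorProduct.includeRight : ThetaS.Lau R →ₐ[R] B ⊗[R] ThetaS.Lau R))
      (CoactBr.pt (Algebra.TensorProduct.includeLeft : B →ₐ[R] B ⊗[R] ThetaS.Lau R)) ≫ aX.act = CoactBr.pt ξ)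
    {v : B ⊗[R] ThetaS.Lau R} (hv : IsUnit v) (hq : ξ q = v * q ⊗ₜ 1) :
    aX.act.left ⁻¹ᵁ (Spec (CommRingCat.of B)).basicOpen ((Scheme.ΓSpecIso (CommRingCat.of B)).inv q) =
      (snd (ThetaS.Gm R) (CoactBr.sp R B)).left ⁻¹ᵁ
        (Spec (CommRingCat.of B)).basicOpen ((Scheme.ΓSpecIso (CommRingCat.of B)).inv q) := by
  let Λ := ThetaS.Lau R
  let U : (CoactBr.sp R B).left.Opens :=
    (Spec (CommRingCat.of B)).basicOpen ((Scheme.ΓSpecIso (CommRingCat.of B)).inv q)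
  letI : (algSpec (CommRingCat.of R)).Braided := braidedAlgSpec
  let σ : CoactBr.sp R (B ⊗[R] Λ) ⟶ ThetaS.Gm R ⊗ CoactBr.sp R B :=
    lift (CoactBr.pt (Algebra.TensorProduct.includeRight : Λ →ₐ[R] B ⊗[R] Λ))
      (CoactBr.pt (Algebra.TensorProduct.includeLeft : B →ₐ[R] B ⊗[R] Λ))
  have : IsIso σ := by
    let τ : CoactBr.sp R (B ⊗[R] Λ) ⟶ CoactBr.sp R B ⊗ ThetaS.Gm R :=
      lift (CoactBr.pt (Algebra.TensorProduct.includeLeft : B →ₐ[R] B ⊗[R] Λ))
        (CoactBr.pt (Algebra.TensorProduct.includeRight : Λ →ₐ[R] B ⊗[R] Λ))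
    have : IsIso τ := by
      have hτ : τ ≫ Functor.LaxMonoidal.μ (algSpec (CommRingCat.of R)) (op (.of R B)) (op (.of R Λ)) = 𝟙 _ := by
        refine (CoactBr.lift_pt_pt _ _).trans ?_
        rw [show Algebra.TensorProduct.lift (Algebra.TensorProduct.includeLeft : B →ₐ[R] B ⊗[R] Λ)
          Algebra.TensorProduct.includeRight (fun _ _ => .all _ _) = AlgHom.id R _ by
            ext <;> simp, CoactBr.pt_id]
      exact IsIso.of_isIso_fac_right hτ
    have : IsIso (lift (snd (CoactBr.sp R B) (ThetaS.Gm R)) (fst _ _)) :=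
      ⟨⟨lift (snd _ _) (fst _ _), by rw [comp_lift, lift_fst, lift_snd, lift_fst_snd],
        by rw [comp_lift, lift_fst, lift_snd, lift_fst_snd]⟩⟩
    rw [show σ = τ ≫ lift (snd _ _) (fst _ _) by rw [comp_lift, lift_fst, lift_snd]]
    infer_instance
  have : IsIso σ.left := inferInstanceAs (IsIso ((Over.forget _).map σ))
  have e : ∀ φ : B →+* B ⊗[R] Λ, pt (Spec.map (CommRingCat.ofHom φ)) q =
      (Scheme.ΓSpecIso (CommRingCat.of (B ⊗[R] Λ))).inv (φ q) := fun φ => by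
    rw [← Category.id_comp (Spec.map _), pt_comp_map]
    simp [pt]
  have key : (σ ≫ aX.act).left ⁻¹ᵁ U = (σ ≫ snd _ _).left ⁻¹ᵁ U := by
    rw [lift_snd, show σ ≫ aX.act = CoactBr.pt ξ from hξ]
    refine ((preimage_basicOpen_pt _ q).trans ?_).trans (preimage_basicOpen_pt _ q).symm
    change (Spec _).basicOpen (pt (Spec.map (CommRingCat.ofHom ξ.toRingHom)) q) =
      (Spec _).basicOpen (pt (Spec.map (CommRingCat.ofHom
        (Algebra.TensorProduct.includeLeft : B →ₐ[R] B ⊗[R] Λ).toRingHom)) q)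
    rw [e, e]
    change (Spec _).basicOpen ((Scheme.ΓSpecIso (CommRingCat.of (B ⊗[R] ThetaS.Lau R))).inv (ξ q)) = _
    rw [hq, map_mul, Scheme.basicOpen_mul, Scheme.basicOpen_of_isUnit _ (hv.map _), top_inf_eq]
    rfl
  exact TopologicalSpace.Opens.ext (Set.preimage_injective.2 σ.left.surjective (congrArg SetLike.coe key))

/-- Coordinate loci are invariant under the action. -/
lemma act_preimage (q : B₀) (hq : q = ThetaS.sFn R π ∨ q = ThetaS.tFn R π) :
    (ThetaS.stAction R π).act.left ⁻¹ᵁ DX π q = (snd (ThetaS.Gm R) (ThetaS.STSch R π)).left ⁻¹ᵁ DX π q := by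
  let g₀ : ThetaS.Lau R →ₐ[R] ThetaS.STRing R π ⊗[R] ThetaS.Lau R := Algebra.TensorProduct.includeRight
  let x₀ : ThetaS.STRing R π →ₐ[R] ThetaS.STRing R π ⊗[R] ThetaS.Lau R := Algebra.TensorProduct.includeLeft
  obtain ⟨ξ, hξ, hs, ht⟩ := exists_st_act (A := ThetaS.STRing R π ⊗[R] ThetaS.Lau R) x₀ g₀
  rcases hq with rfl | rfl
  · exact preimage_semiInvariant _ _ ξ hξ ((isUnit_zPow 1).map (g₀ : ThetaS.Lau R →+* _)) hs
  · exact preimage_semiInvariant _ _ ξ hξ ((isUnit_zPow (-1)).map (g₀ : ThetaS.Lau R →+* _)) ht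

variable (π)
variable (A : (ThetaS.STR K₀ R π).obj)

variable {π}

lemma covers_of_missesNode (hA : ThetaS.MissesNode A) :
    ∀ y, A.φ.left y ∈ DX π (ThetaS.sFn R π) ∨ A.φ.left y ∈ DX π (ThetaS.tFn R π) := fun y =>
  ((preimage_pairOpen_eq_top A.φ.left (ThetaS.sFn R π) (ThetaS.tFn R π)).2 hA).ge
    (trivial : y ∈ (⊤ : A.P.left.Opens))

lemma flat_π : Flat A.π.left ∧ Surjective A.π.left ∧ QuasiCompact A.π.left := by
  have : IsAffine (ThetaS.Gm R).left := inferInstanceAs (IsAffine (Spec _))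
  have hs := torsor_prop @Surjective le_rfl A (surjective_group (η : 𝟙_ (Over _) ⟶ ThetaS.Gm R))
  have hf : Flat (ThetaS.Gm R).hom := by
    change Flat (Spec.map _)
    rw [HasRingHomProperty.Spec_iff (P := @Flat)]
    exact RingHom.flat_algebraMap_iff.2 inferInstance
  have ha : IsAffineHom (ThetaS.Gm R).hom := by infer_instance
  have := torsor_prop @IsAffineHom le_rfl A ha
  exact ⟨torsor_prop @Flat le_rfl A hf, hs, inferInstance⟩

lemma exists_descend (hA : ThetaS.MissesNode A) :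
    ∃ g : A.base.left ⟶ DL π, A.π.left ≫ g = gU A.φ.left (covers_of_missesNode A hA) ∧
      g ≫ fold π = A.base.hom := by
  obtain ⟨hf, hs, hq⟩ := flat_π A
  have : EffectiveEpi A.π.left := inferInstance
  have hinv : A.act.act.left ≫ gU A.φ.left (covers_of_missesNode A hA) =
      (snd (ThetaS.Gm R) A.P).left ≫ gU A.φ.left (covers_of_missesNode A hA) := by
    rw [comp_gU _ _ _ rfl, comp_gU _ _ _ rfl]
    have hpre : ∀ q, (q = ThetaS.sFn R π ∨ q = ThetaS.tFn R π) →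
        (A.act.act.left ≫ A.φ.left) ⁻¹ᵁ DX π q = ((snd (ThetaS.Gm R) A.P).left ≫ A.φ.left) ⁻¹ᵁ DX π q := by
      intro q hq
      have e1 : A.act.act.left ≫ A.φ.left = (ThetaS.Gm R ◁ A.φ).left ≫ (ThetaS.stAction R π).act.left :=
        congrArg (fun k => Over.Hom.left k) A.eqv
      have e2 : (snd (ThetaS.Gm R) A.P).left ≫ A.φ.left = (ThetaS.Gm R ◁ A.φ).left ≫ (snd (ThetaS.Gm R) (ThetaS.STSch R π)).left :=
        congrArg (fun k => Over.Hom.left k) (whiskerLeft_snd (ThetaS.Gm R) A.φ).symm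
      rw [e1, e2, Scheme.Hom.comp_preimage, Scheme.Hom.comp_preimage, act_preimage q hq]
    refine side_eq_of _ _ ?_ (hpre _ (Or.inl rfl)) (hpre _ (Or.inr rfl))
    exact (congrArg (· ≫ _) rfl).trans (((Over.w (A.act.act ≫ A.φ)).trans (Over.w (snd _ _ ≫ A.φ)).symm))
  refine ⟨EffectiveEpi.desc A.π.left _ (fun {Z} g₁ g₂ hg => ?_), EffectiveEpi.fac _ _ _, ?_⟩
  · let sq := A.cart.map (Over.forget _)
    rw [← sq.lift_fst g₁ g₂ hg]
    conv_rhs => rw [← sq.lift_snd g₁ g₂ hg]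
    rw [Category.assoc, Category.assoc]
    exact congrArg _ hinv
  · rw [← cancel_epi A.π.left, EffectiveEpi.fac_assoc, gU, side_fold]
    exact (Over.w A.φ).trans (Over.w A.π).symm

/-- The map to the doubled spectrum of an object missing the node. -/
def gA (hA : ThetaS.MissesNode A) : A.base.left ⟶ DL π := (exists_descend A hA).choose

variable {S : Scheme.{u}} (h : Spec (CommRingCat.of R) ⟶ S)

/-- The point of the doubled spectrum over the base. -/
def gO (A : (ThetaS.stPunc K₀ R π h).obj) : (Over.map h).obj A.obj.base ⟶ LO h π :=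
  Over.homMk (gA A.obj A.property) (by
    change gA A.obj A.property ≫ fold π ≫ h = A.obj.base.hom ≫ h
    rw [← Category.assoc, gA, (exists_descend A.obj A.property).choose_spec.2])

lemma gO_comp {A A' : (ThetaS.stPunc K₀ R π h).obj} (ψ : A ⟶ A') :
    (Over.map h).map ψ.hom.base ≫ gO h A' = gO h A := by
  apply Over.OverMorphism.ext
  change ψ.hom.base.left ≫ gA A'.obj A'.property = gA A.obj A.property
  obtain ⟨hf, hs, hq⟩ := flat_π A.obj
  have : EffectiveEpi A.obj.π.left := inferInstance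
  rw [← cancel_epi A.obj.π.left, gA, gA, (exists_descend A.obj A.property).choose_spec.1, ← Category.assoc,
    ← (isPullback_left ψ.hom).w, Category.assoc, (exists_descend A'.obj A'.property).choose_spec.1]
  exact comp_gU _ _ _ (congrArg (fun k => Over.Hom.left k) ψ.hom.wφ)

/-- The family of torsors over the punctured stack. -/
def fam (π : R) : ThetaS.stPunc K₀ R π h ⥤ᵇ AlgSt.BG K₀ (Red.Ga S) where
  toFunctor :=
    { obj := fun A => pullObj (xi π h) (gO h A)
      map := fun {A A'} ψ => cartLift (pullHom (xi π h) (gO h A')) (pullHom (xi π h) (gO h A))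
        ((Over.map h).map ψ.hom.base) (gO_comp h ψ)
      map_id := fun A => hom_ext' (pullHom (xi π h) (gO h A)) ((Over.map h).map_id _)
        (by rw [cartLift_comp, Category.id_comp])
      map_comp := fun {A A' A''} ψ ψ' => hom_ext' (pullHom (xi π h) (gO h A''))
        ((Over.map h).map_comp _ _)
        (by rw [cartLift_comp, Category.assoc, cartLift_comp, cartLift_comp]) }
  w := rfl

lemma toSelf_unique {𝒜 : AlgSt.Cat S} (G G' : 𝒜 ⥤ᵇ FibCat.selfOver (Over S)) : G = G' := by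
  obtain ⟨G, hG⟩ := G
  obtain ⟨G', hG'⟩ := G'
  obtain rfl : G = 𝒜.p := (Functor.comp_id G).symm.trans hG
  obtain rfl : G' = 𝒜.p := (Functor.comp_id G').symm.trans hG'
  rfl

lemma dvd_of_dvd_pow_mul {A : Type*} [CommRing A] {a b : A} (ha : ∀ x, a * x = 0 → x = 0)
    (hb : ∀ x, a ∣ b * x → a ∣ x) : ∀ (n : ℕ) (w : A), b ∣ a ^ n * w → b ∣ w := by
  intro n
  induction n with
  | zero => intro w hw; simpa using hw
  | succ n ih =>
    intro w hw
    obtain ⟨x, hx⟩ := ih (a * w) (by rwa [← _root_.mul_assoc, ← pow_succ])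
    obtain ⟨x₁, rfl⟩ := hb x ⟨w, hx.symm⟩
    exact ⟨x₁, sub_eq_zero.1 (ha _ (by linear_combination hx))⟩

theorem not_lifts [IsDomain R] (hπ : π ≠ 0) (hπu : ¬ IsUnit π) :
    ¬ LiftSq.Lifts (ThetaS.stIncl K₀ R π h) (FibCat.toSelf (AlgSt.BG K₀ (Red.Ga S))) := by
  intro H
  let 𝒴 := AlgSt.BG K₀ (Red.Ga S)
  have : IsAffine (ThetaS.STSch R π).left := inferInstanceAs (IsAffine (Spec _))
  obtain ⟨d⟩ := H ⟨fam h π, FibCat.toSelf _, eqToIso (toSelf_unique _ _)⟩
  let X := ThetaS.STSch R π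
  let Us : X.left.Opens := pairOpen (ThetaS.sFn R π) (ThetaS.tFn R π)
  let T1 := H13AlgSp.openOver X Us
  let x1 : T1 ⟶ X := H13AlgSp.openIncl X Us
  let aX := ThetaS.stAction R π
  let B1 : (ThetaS.STR K₀ R π).obj := triv K₀ (ThetaS.Gm R) aX x1
  let b1 : (ThetaS.stPunc K₀ R π h).obj := ⟨B1, by
    refine (preimage_pairOpen_eq_top B1.φ.left _ _).1 (top_unique fun p _ => ?_)
    have e : ∀ q, (q = ThetaS.sFn R π ∨ q = ThetaS.tFn R π) →
        B1.φ.left ⁻¹ᵁ DX π q = ((snd (ThetaS.Gm R) T1).left ≫ x1.left) ⁻¹ᵁ DX π q := by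
      intro q hq
      change ((ThetaS.Gm R ◁ x1).left ≫ aX.act.left) ⁻¹ᵁ DX π q = _
      rw [Scheme.Hom.comp_preimage, act_preimage q hq, ← Scheme.Hom.comp_preimage]
      exact congrArg (fun k => k ⁻¹ᵁ DX π q) (congrArg (fun k => Over.Hom.left k) (whiskerLeft_snd (ThetaS.Gm R) x1))
    change p ∈ B1.φ.left ⁻¹ᵁ (DX π _ ⊔ DX π _)
    rw [Scheme.Hom.preimage_sup, e _ (Or.inl rfl), e _ (Or.inr rfl), ← Scheme.Hom.preimage_sup]
    exact ((snd (ThetaS.Gm R) T1).left p).2⟩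
  let b0 : (ThetaS.STR K₀ R π).obj := triv K₀ (ThetaS.Gm R) aX (𝟙 X)
  let m₁ : B1 ⟶ b0 := (AlgSt.quotMap K₀ (ThetaS.Gm R) aX).map
    ((AlgSt.ofOverCat X).map (Over.homMk x1 (Category.comp_id _) : Over.mk x1 ⟶ Over.mk (𝟙 X)))
  -- the point of the doubled spectrum
  have hcov1 : ∀ y, x1.left y ∈ DX π (ThetaS.sFn R π) ∨ x1.left y ∈ DX π (ThetaS.tFn R π) := fun y => y.2
  have hg : (gO h b1).left = gU x1.left hcov1 := by
    let σ : T1 ⟶ B1.P := unitSec (ThetaS.Gm R) T1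
    have h1 : σ.left ≫ B1.π.left = 𝟙 _ := congrArg (fun k => Over.Hom.left k) (lift_snd (1 : T1 ⟶ ThetaS.Gm R) (𝟙 T1))
    have h2 : σ ≫ B1.φ = x1 := by
      change lift 1 (𝟙 T1) ≫ (ThetaS.Gm R ◁ x1) ≫ aX.act = x1
      rw [lift_whiskerLeft_assoc, Category.id_comp, unit_act]
    change gA B1 b1.property = _
    refine ((Category.id_comp _).symm.trans
      ((congrArg (· ≫ gA B1 b1.property) h1).symm.trans (Category.assoc _ _ _))).trans ?_
    rw [gA, (exists_descend B1 b1.property).choose_spec.1]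
    exact comp_gU _ _ _ (congrArg (fun k => Over.Hom.left k) h2)
  let G1 := d.fn.obj b1.obj
  let P0 := d.fn.obj b0
  let e1 : G1.base ⟶ (Over.map h).obj T1 := eqToHom (d.fn.w_obj b1.obj)
  let e0 : P0.base ⟶ (Over.map h).obj X := eqToHom (d.fn.w_obj b0)
  let Φ : G1 ⟶ P0 := d.fn.map m₁
  have hΦ : Φ.base ≫ e0 = e1 ≫ (Over.map h).map x1 := by
    have := Functor.congr_hom d.fn.w m₁
    change Φ.base = eqToHom _ ≫ (Over.map h).map x1 ≫ eqToHom _ at this
    rw [this]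
    simp [e0, e1]
  let iso := d.isoTop.hom.toNatTrans.app b1
  let Ψ : G1 ⟶ xi π h := iso ≫ pullHom (xi π h) (gO h b1)
  have hΨ : Ψ.base = e1 ≫ gO h b1 := by
    haveI := d.isoTop.hom.isHomLift' b1
    have := IsHomLift.fac' 𝒴.p (𝟙 ((ThetaS.stPunc K₀ R π h).p.obj b1)) iso
    change iso.base = eqToHom _ ≫ 𝟙 _ ≫ eqToHom _ at this
    change iso.base ≫ gO h b1 = _
    rw [this, Category.id_comp, eqToHom_trans]
  -- a point of the covering over the node
  obtain ⟨χ, hχs, hχt⟩ : ∃ χ : B₀ →+* R ⧸ Ideal.span {π}, χ (ThetaS.sFn R π) = 0 ∧ χ (ThetaS.tFn R π) = 0 := by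
    refine ⟨(ThetaS.stPt (A := R ⧸ Ideal.span {π}) 0 0 ?_).toRingHom, ThetaS.stPt_sFn _ _ _, ThetaS.stPt_tFn _ _ _⟩
    rw [mul_zero, Ideal.Quotient.algebraMap_eq, Ideal.Quotient.eq_zero_iff_mem.2 (Ideal.mem_span_singleton_self π)]
  have : Nontrivial (R ⧸ Ideal.span {π}) :=
    Ideal.Quotient.nontrivial_iff.2 (fun e => hπu (Ideal.span_singleton_eq_top.1 e))
  obtain ⟨k0⟩ : Nonempty (Spec (CommRingCat.of (R ⧸ Ideal.span {π}))) :=
    inferInstanceAs (Nonempty (PrimeSpectrum _))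
  let x0 : X.left := Spec.map (CommRingCat.ofHom χ) k0
  have hx0 : ∀ q, χ q = 0 → x0 ∉ DX π q := fun q hq hm => by
    have hm' : k0 ∈ Spec.map (CommRingCat.ofHom χ) ⁻¹ᵁ DX π q := hm
    rw [preimage_basicOpen_pt, ← Category.id_comp (Spec.map _), pt_comp_map, RingHom.comp_apply, hq, map_zero,
      Scheme.basicOpen_zero] at hm'
    exact hm'
  obtain ⟨Rc, hR, hloc⟩ := P0.loc
  obtain ⟨κ, Z, g, rfl⟩ := Presieve.exists_eq_ofArrows Rc
  obtain ⟨hsurj, hmor⟩ := (Scheme.ofArrows_mem_precoverage_iff (P := @Flat ⊓ @LocallyOfFinitePresentation)).1 hR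
  have : IsIso e0.left := inferInstanceAs (IsIso ((Over.forget S).map e0))
  obtain ⟨y, hy⟩ := e0.left.surjective x0
  obtain ⟨i, z, hz⟩ := hsurj y
  obtain ⟨sec, hsec⟩ := hloc (g i) ⟨i⟩
  change sec ≫ P0.π.left = g i at hsec
  have : Flat (g i) := (hmor i).1
  obtain ⟨V, hV, hzV, -⟩ := exists_isAffineOpen_mem_and_subset (X := Z i) (x := z) (U := ⊤) trivial
  have : IsAffine V.toScheme := hV
  let c : V.toScheme ⟶ X.left := V.ι ≫ g i ≫ e0.left
  let z' : V := ⟨z, hzV⟩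
  have hcz : c z' = x0 := by rw [← hy, ← hz]; rfl
  let a := pt c (ThetaS.sFn R π)
  let b := pt c (ThetaS.tFn R π)
  have hflat : (pt c).Flat := by
    have h1 : c.appTop.hom.Flat := HasRingHomProperty.appTop @Flat c inferInstance
    exact RingHom.Flat.comp (RingHom.Flat.of_bijective
      (ConcreteCategory.bijective_of_isIso (Scheme.ΓSpecIso (CommRingCat.of B₀)).inv)) h1
  have hreg : RingTheory.Sequence.IsWeaklyRegular Γ(V.toScheme, ⊤) [a, b] := by
    letI := (pt c).toAlgebra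
    haveI : Module.Flat B₀ Γ(V.toScheme, ⊤) := hflat
    exact RingTheory.Sequence.IsWeaklyRegular.of_flat (S := Γ(V.toScheme, ⊤)) (regular_st hπ)
  let W₀ : V.toScheme.Opens := V.toScheme.basicOpen a ⊔ V.toScheme.basicOpen b
  have hW₀ : c ⁻¹ᵁ Us = W₀ := by
    change c ⁻¹ᵁ (DX π _ ⊔ DX π _) = _
    rw [Scheme.Hom.preimage_sup, preimage_basicOpen_pt, preimage_basicOpen_pt]
  have hr : Set.range (W₀.ι ≫ c) ⊆ Set.range Us.ι := by
    rintro _ ⟨w, rfl⟩
    exact Us.range_ι.ge (hW₀.ge w.2)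
  have : IsIso e1.left := inferInstanceAs (IsIso ((Over.forget S).map e1))
  let l : W₀.toScheme ⟶ G1.base.left := IsOpenImmersion.lift Us.ι (W₀.ι ≫ c) hr ≫ inv e1.left
  have hl : l ≫ Φ.base.left = W₀.ι ≫ V.ι ≫ g i := by
    rw [← cancel_mono e0.left]
    have := congrArg (fun k => Over.Hom.left k) hΦ
    change Φ.base.left ≫ e0.left = e1.left ≫ Us.ι at this
    rw [Category.assoc, this, Category.assoc, IsIso.inv_hom_id_assoc, IsOpenImmersion.lift_fac]
    simp only [c, Category.assoc]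
  let w : W₀.toScheme ⟶ G1.P.left := (isPullback_left Φ).lift (W₀.ι ≫ V.ι ≫ sec) l (by
    rw [hl, Category.assoc, Category.assoc, hsec])
  let e : W₀.toScheme ⟶ Spec (CommRingCat.of (ERing R π)) := w ≫ Ψ.top.left
  have he : e ≫ qE = gU (W₀.ι ≫ c) (fun y => hW₀.ge y.2) := by
    have h1 : Ψ.top.left ≫ qE = G1.π.left ≫ e1.left ≫ (gO h b1).left := by
      change Ψ.top.left ≫ qE = G1.π.left ≫ (e1 ≫ gO h b1).left
      rw [← hΨ]
      exact (isPullback_left Ψ).w
    rw [Category.assoc, h1, IsPullback.lift_snd_assoc, Category.assoc, IsIso.inv_hom_id_assoc, hg]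
    exact comp_gU _ _ _ (IsOpenImmersion.lift_fac Us.ι (W₀.ι ≫ c) hr)
  rw [comp_qE, gU] at he
  obtain ⟨hρ, hsepE⟩ := side_inj _ _ he
  obtain ⟨-, hsepU⟩ := side_inj _ _ he.symm
  -- extend the coordinate
  obtain ⟨u, hu⟩ : ∃ u : Γ(V.toScheme, ⊤), W₀.ι.appTop u = pt e (uF R π) := by
    obtain ⟨u, hu⟩ := (bijective_res_of_pair a b hreg).2 (W₀.topIso.hom (pt e (uF R π)))
    refine ⟨u, ?_⟩
    have : W₀.ι.appTop = V.toScheme.presheaf.map (homOfLE (le_top : W₀ ≤ ⊤)).op ≫ W₀.topIso.inv := by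
      rw [Scheme.Opens.ι_appTop, Scheme.Opens.topIso_inv, ← Functor.map_comp]
      rfl
    rw [this]
    exact (congrArg _ hu).trans (Iso.hom_inv_id_apply W₀.topIso _)
  have hab : pt c (algebraMap R B₀ π) = a * b := by rw [← ThetaS.sFn_mul_tFn, map_mul]
  have hle : ∀ (p f : Γ(V.toScheme, ⊤)), V.toScheme.basicOpen p ≤ W₀ →
      (∀ y : W₀, y.1 ∈ V.toScheme.basicOpen p → y.1 ∈ V.toScheme.basicOpen f → (W₀.ι ≫ c ≫ stStr π) y ∈ Dπ π) →
      ∃ n, a * b ∣ (p * f) ^ n := by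
    intro p f hp hsep
    have := (isAffineOpen_top V.toScheme).isLocalization_basicOpen (p * f)
    refine (IsLocalization.Away.algebraMap_isUnit_iff (p * f)
      (S := Γ(V.toScheme, V.toScheme.basicOpen (p * f)))).1 ?_
    have hsub : V.toScheme.basicOpen (p * f) ≤ V.toScheme.basicOpen (a * b) := by
      intro y hy
      rw [Scheme.basicOpen_mul] at hy
      have hm : y ∈ (c ≫ stStr π) ⁻¹ᵁ Dπ π := hsep ⟨y, hp hy.1⟩ hy.1 hy.2
      rwa [preimage_Dπ, pt_comp_map, RingHom.comp_apply, hab] at hm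
    have := (RingedSpace.isUnit_res_basicOpen V.toScheme.toLocallyRingedSpace.toRingedSpace (a * b)).map
      (V.toScheme.presheaf.map (homOfLE hsub).op).hom
    change IsUnit ((V.toScheme.presheaf.map _ ≫ V.toScheme.presheaf.map _).hom (a * b)) at this
    rw [← Functor.map_comp] at this
    exact this
  have hmem : ∀ {f : Γ(V.toScheme, ⊤)} (y : W₀), y ∈ W₀.toScheme.basicOpen (W₀.ι.appTop f) ↔
      y.1 ∈ V.toScheme.basicOpen f := fun y => (apply_mem_basicOpen_iff W₀.ι).symm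
  have hcu : ∀ y : W₀, y ∈ (W₀.ι ≫ c) ⁻¹ᵁ DX π (ThetaS.sFn R π) ↔ y.1 ∈ V.toScheme.basicOpen a := fun y => by
    rw [Scheme.Hom.comp_preimage, preimage_basicOpen_pt]
    rfl
  have hcv : ∀ y : W₀, y ∈ (W₀.ι ≫ c) ⁻¹ᵁ DX π (ThetaS.tFn R π) ↔ y.1 ∈ V.toScheme.basicOpen b := fun y => by
    rw [Scheme.Hom.comp_preimage, preimage_basicOpen_pt]
    rfl
  obtain ⟨n, hn⟩ := hle a u le_sup_left fun y h₁ h₂ => by
    have := hsepU y ((hcu y).2 h₁) (by rw [← hu]; exact (hmem y).2 h₂)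
    simpa only [Category.assoc] using this
  obtain ⟨m, hm⟩ := hle b (u + 1) le_sup_right fun y h₁ h₂ => by
    have := hsepE y (by rw [← hu, ← map_one W₀.ι.appTop.hom, ← map_add]; exact (hmem y).2 h₂) ((hcv y).2 h₁)
    rw [hρ] at this
    simpa only [Category.assoc] using this
  obtain ⟨ha, hb⟩ := (pair_regular_iff a b).1 hreg
  have hbu : b ∣ u ^ n := dvd_of_dvd_pow_mul ha hb n _ ((dvd_mul_left b a).trans (by rwa [mul_pow] at hn))
  have hau : a ∣ (u + 1) ^ m := by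
    simpa using pow_dvd_of_pair a b ha hb 1 m ((u + 1) ^ m) (by
      rw [pow_one]
      exact (dvd_mul_right a b).trans (by rwa [mul_pow] at hm))
  let ε := (V.toScheme.presheaf.germ ⊤ z' trivial).hom
  have hz : ∀ q, χ q = 0 → ¬ IsUnit (ε (pt c q)) := fun q hq hu' => hx0 q hq (by
    rw [← hcz]
    have : z' ∈ c ⁻¹ᵁ DX π q := by
      rw [preimage_basicOpen_pt, mem_basicOpen_iff]
      exact hu'
    exact this)
  have h1 : ¬ IsUnit (ε u) := fun hu' => hz _ hχt (isUnit_of_dvd_unit (map_dvd ε hbu) (by rw [map_pow]; exact hu'.pow n))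
  have h2 : ¬ IsUnit (ε u + 1) := fun hu' =>
    hz _ hχs (isUnit_of_dvd_unit (map_dvd ε hau) (by rw [map_pow, map_add, map_one]; exact hu'.pow m))
  exact h1 (not_unit_add_one h2)

end Groth.Agent.H14Ga
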