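import Groth.Agent.H14Ga.DoubleLine
import Groth.Agent.H27Witt.GaCoord
import Groth.Prelude.Def_AlgSt5
import Mathlib.AlgebraicGeometry.Sites.Fpqc

/-!
# A nontrivial torsor under the additive group on a doubled spectrum
-/

set_option autoImplicit false
set_option linter.unusedVariables false
set_option backward.isDefEq.respectTransparency false
set_option backward.isDefEq.respectTransparency.types false

universe u

open CategoryTheory CategoryTheory.Limits MonoidalCategory CartesianMonoidalCategory MonObj GrpObj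
open AlgebraicGeometry

noncomputable section

namespace Groth.Agent.H14Ga

open Groth.Agent.H27Witt.GaCoord

section Fun

variable {W W' : Scheme.{u}} {A B : Type u} [CommRing A] [CommRing B]

/-- The ring map of functions defined by a morphism to an affine scheme. -/
def pt (e : W ⟶ Spec (CommRingCat.of A)) : A →+* Γ(W, ⊤) :=
  ((Scheme.ΓSpecIso (CommRingCat.of A)).inv ≫ e.appTop).hom

/-- The morphism to an affine scheme defined by a ring map into the functions. -/
def toSp (φ : A →+* Γ(W, ⊤)) : W ⟶ Spec (CommRingCat.of A) :=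
  W.toSpecΓ ≫ Spec.map (CommRingCat.ofHom φ)

lemma pt_toSp (φ : A →+* Γ(W, ⊤)) : pt (toSp φ) = φ := by
  have : (Scheme.ΓSpecIso (CommRingCat.of A)).inv ≫ (toSp φ).appTop = CommRingCat.ofHom φ := by simp [toSp]
  rw [pt, this]
  rfl

lemma pt_ext {e e' : W ⟶ Spec (CommRingCat.of A)} (h : pt e = pt e') : e = e' :=
  ext_of_isAffine ((cancel_epi (Scheme.ΓSpecIso (CommRingCat.of A)).inv).1 (CommRingCat.hom_ext h))

lemma pt_comp (f : W' ⟶ W) (e : W ⟶ Spec (CommRingCat.of A)) : pt (f ≫ e) = f.appTop.hom.comp (pt e) := rfl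

lemma pt_eq (e : W ⟶ Spec (CommRingCat.of A)) (a : A) : pt e a = e.appTop (pt (𝟙 _) a) := by
  simp [pt]

lemma pt_comp_map (e : W ⟶ Spec (CommRingCat.of B)) (φ : A →+* B) :
    pt (e ≫ Spec.map (CommRingCat.ofHom φ)) = (pt e).comp φ := by
  unfold pt
  rw [Scheme.Hom.comp_appTop, ← Category.assoc, ← Scheme.ΓSpecIso_inv_naturality, Category.assoc]
  rfl

lemma preimage_basicOpen_pt (e : W ⟶ Spec (CommRingCat.of A)) (a : A) :
    e ⁻¹ᵁ (Spec (CommRingCat.of A)).basicOpen ((Scheme.ΓSpecIso (CommRingCat.of A)).inv a) =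
      W.basicOpen (pt e a) :=
  Scheme.preimage_basicOpen_top e _

lemma apply_mem_basicOpen_iff (e : W ⟶ W') {f : Γ(W', ⊤)} {x : W} :
    e x ∈ W'.basicOpen f ↔ x ∈ W.basicOpen (e.appTop f) := by
  rw [← Scheme.preimage_basicOpen_top]
  rfl

lemma mem_basicOpen_iff {x : W} {f : Γ(W, ⊤)} :
    x ∈ W.basicOpen f ↔ IsUnit ((W.presheaf.germ ⊤ x trivial).hom f) :=
  W.mem_basicOpen f x trivial

end Fun

variable (R : Type u) [CommRing R] (π : R)

/-- The ring `R[u,v]/(u(u+1) - πv)`. -/
abbrev ERing : Type u :=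
  MvPolynomial (Fin 2) R ⧸
    Ideal.span {(MvPolynomial.X 0 * (MvPolynomial.X 0 + 1) - MvPolynomial.C π * MvPolynomial.X 1 : MvPolynomial (Fin 2) R)}

/-- The coordinate `u`. -/
abbrev uF : ERing R π := Ideal.Quotient.mk _ (MvPolynomial.X 0)

/-- The coordinate `v`. -/
abbrev vF : ERing R π := Ideal.Quotient.mk _ (MvPolynomial.X 1)

lemma eRing_rel : uF R π * (uF R π + 1) = algebraMap R (ERing R π) π * vF R π := by
  rw [IsScalarTower.algebraMap_apply R (MvPolynomial (Fin 2) R) (ERing R π), Ideal.Quotient.algebraMap_eq,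
    MvPolynomial.algebraMap_eq, ← map_mul, ← map_one (Ideal.Quotient.mk _), ← map_add, ← map_mul]
  exact (Ideal.Quotient.mk_eq_mk_iff_sub_mem _ _).mpr (Ideal.subset_span rfl)

variable {R π}

/-- A map out of `R[u,v]/(u(u+1) - πv)`. -/
def eLift {A : Type u} [CommRing A] (ρ : R →+* A) (a b : A) (h : a * (a + 1) = ρ π * b) : ERing R π →+* A :=
  Ideal.Quotient.lift _ (MvPolynomial.eval₂Hom ρ ![a, b]) fun p hp => by
    obtain ⟨c, rfl⟩ := Ideal.mem_span_singleton'.mp hp
    simp [h]

lemma eLift_spec {A : Type u} [CommRing A] (ρ : R →+* A) (a b : A) (h : a * (a + 1) = ρ π * b) :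
    (eLift ρ a b h).comp (algebraMap R _) = ρ ∧ eLift ρ a b h (uF R π) = a ∧ eLift ρ a b h (vF R π) = b := by
  refine ⟨RingHom.ext fun r => ?_, ?_, ?_⟩
  · change eLift ρ a b h (Ideal.Quotient.mk _ (MvPolynomial.C r)) = ρ r
    simp [eLift]
  · simp [eLift]
  · simp [eLift]

lemma eHom_ext {A : Type u} [CommRing A] {f g : ERing R π →+* A} (h : f.comp (algebraMap R _) = g.comp (algebraMap R _))
    (hu : f (uF R π) = g (uF R π)) (hv : f (vF R π) = g (vF R π)) : f = g := by
  refine Ideal.Quotient.ringHom_ext (MvPolynomial.ringHom_ext (fun r => RingHom.congr_fun h r) fun i => ?_)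
  fin_cases i
  · exact hu
  · exact hv

variable (R π)

/-- The structure morphism of the torsor over `Spec R`. -/
abbrev eStr : Spec (CommRingCat.of (ERing R π)) ⟶ Spec (CommRingCat.of R) :=
  Spec.map (CommRingCat.ofHom (algebraMap R (ERing R π)))

variable {R π}

lemma pt_eStr {W : Scheme.{u}} (e : W ⟶ Spec (CommRingCat.of (ERing R π))) :
    pt (e ≫ eStr R π) = (pt e).comp (algebraMap R _) := pt_comp_map e _

lemma preimage_Dπ {W : Scheme.{u}} (r : W ⟶ Spec (CommRingCat.of R)) : r ⁻¹ᵁ Dπ π = W.basicOpen (pt r π) :=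
  preimage_basicOpen_pt r π

lemma mem_Dπ {W : Scheme.{u}} (r : W ⟶ Spec (CommRingCat.of R)) (x : W) :
    r x ∈ Dπ π ↔ IsUnit ((W.presheaf.germ ⊤ x trivial).hom (pt r π)) := by
  rw [← mem_basicOpen_iff, ← preimage_Dπ]
  rfl

lemma not_unit_add_one {A : Type u} [CommRing A] [IsLocalRing A] {a : A} :
    ¬ IsUnit (a + 1) → IsUnit a := fun h => by
  have := IsLocalRing.isUnit_or_isUnit_of_add_one (a := -a) (b := a + 1) (by ring)
  exact (IsUnit.neg_iff a).1 (this.resolve_right h)

lemma eSides {W : Scheme.{u}} (e : W ⟶ Spec (CommRingCat.of (ERing R π))) :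
    Sides (e ≫ eStr R π) π (W.basicOpen (pt e (uF R π) + 1)) (W.basicOpen (pt e (uF R π))) := by
  refine ⟨fun x => ?_, fun x h₁ h₂ => ?_⟩
  · rw [mem_basicOpen_iff, mem_basicOpen_iff, map_add, map_one]
    by_cases h : IsUnit ((W.presheaf.germ ⊤ x trivial).hom (pt e (uF R π)) + 1)
    · exact Or.inl h
    · exact Or.inr (not_unit_add_one h)
  · rw [mem_basicOpen_iff] at h₁ h₂
    have h := h₂.mul h₁
    rw [← map_mul, ← map_one (pt e), ← map_add, ← map_mul, eRing_rel, map_mul, map_mul] at h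
    rw [mem_Dπ, pt_eStr]
    exact isUnit_of_mul_isUnit_left h

/-- The map of the torsor to the doubled spectrum. -/
def qE : Spec (CommRingCat.of (ERing R π)) ⟶ DL π := side (eSides (𝟙 _))

lemma comp_qE {W : Scheme.{u}} (e : W ⟶ Spec (CommRingCat.of (ERing R π))) :
    e ≫ qE = side (eSides e) := by
  refine comp_side (eSides (𝟙 _)) e ?_ ?_ ?_ (eSides e)
  · rw [Category.id_comp]
  · rw [Scheme.preimage_basicOpen_top, map_add, map_one, pt_eq e]
  · rw [Scheme.preimage_basicOpen_top, pt_eq e]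

/-- Two elements which are the multiples of a common element by the members of a covering pair of functions. -/
lemma exists_div_of_cover {W : Scheme.{u}} {p w a b : Γ(W, ⊤)} (h : p * b = w * a)
    (hc : ∀ x, x ∈ W.basicOpen p ∨ x ∈ W.basicOpen w) : ∃ c, p * c = a ∧ w * c = b := by
  let f : Bool → Γ(W, ⊤) := fun i => bif i then p else w
  let g : Bool → Γ(W, ⊤) := fun i => bif i then a else b
  have hfg : ∀ i k, f i * g k = f k * g i := by
    intro i k
    cases i <;> cases k <;> simp [f, g, h]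
  let r : ∀ {U V : W.Opens}, U ≤ V → (Γ(W, V) →+* Γ(W, U)) := fun e => (W.presheaf.map (homOfLE e).op).hom
  have rr : ∀ {U V Z : W.Opens} (e : U ≤ V) (e' : V ≤ Z) (s : Γ(W, Z)), r e (r e' s) = r (e.trans e') s :=
    fun e e' s => by
      change (W.presheaf.map _ ≫ W.presheaf.map _).hom s = _
      rw [← Functor.map_comp]
      rfl
  let U : Bool → W.Opens := fun i => W.basicOpen (f i)
  have hu : ∀ i, IsUnit (r (le_top : U i ≤ ⊤) (f i)) := fun i =>
    RingedSpace.isUnit_res_basicOpen W.toLocallyRingedSpace.toRingedSpace (f i)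
  let s : ∀ i, Γ(W, U i) := fun i => ((hu i).unit⁻¹ : (Γ(W, U i))ˣ).val * r le_top (g i)
  have hs : ∀ i, r le_top (f i) * s i = r le_top (g i) := fun i => by
    rw [← _root_.mul_assoc, IsUnit.mul_val_inv, _root_.one_mul]
  have hcov : (⊤ : W.Opens) ≤ iSup U := fun x _ => by
    rcases hc x with hx | hx
    · exact TopologicalSpace.Opens.mem_iSup.2 ⟨true, hx⟩
    · exact TopologicalSpace.Opens.mem_iSup.2 ⟨false, hx⟩
  obtain ⟨(c : Γ(W, ⊤)), hcs, -⟩ := W.sheaf.existsUnique_gluing' U ⊤ (fun i => homOfLE le_top) hcov s (fun i k => by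
    change r (inf_le_left : U i ⊓ U k ≤ U i) (s i) = r inf_le_right (s k)
    have hu' := (hu i).map (r (inf_le_left : U i ⊓ U k ≤ U i))
    have hu'' := (hu k).map (r (inf_le_right : U i ⊓ U k ≤ U k))
    rw [rr] at hu' hu''
    refine (hu'.mul hu'').mul_right_injective ?_
    have e1 := congrArg (r (inf_le_left : U i ⊓ U k ≤ U i)) (hs i)
    have e2 := congrArg (r (inf_le_right : U i ⊓ U k ≤ U k)) (hs k)
    have e3 := congrArg (r (le_top : U i ⊓ U k ≤ ⊤)) (hfg i k)
    simp only [map_mul, rr] at e1 e2 e3 ⊢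
    linear_combination r le_top (f k) * e1 - r le_top (f i) * e2 - e3)
  have key : ∀ i, f i * c = g i := fun i => by
    refine W.sheaf.eq_of_locally_eq' U ⊤ (fun i => homOfLE le_top) hcov _ _ fun k => ?_
    change r le_top (f i * c) = r le_top (g i)
    refine (hu k).mul_right_injective ?_
    have e : r (le_top : U k ≤ ⊤) c = s k := hcs k
    have e3 := congrArg (r (le_top : U k ≤ ⊤)) (hfg k i)
    simp only [map_mul] at e3 ⊢
    rw [e]
    linear_combination r le_top (f i) * hs k - e3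
  exact ⟨c, key true, key false⟩

section Torsor

variable {S : Scheme.{u}} (h : Spec (CommRingCat.of R) ⟶ S)

/-- The total space over the base. -/
abbrev EO (π : R) : Over S := Over.mk (eStr R π ≫ h)

/-- The doubled spectrum over the base. -/
abbrev LO (π : R) : Over S := Over.mk (fold π ≫ h)

/-- The map to the doubled spectrum over the base. -/
abbrev qO : EO h π ⟶ LO h π :=
  Over.homMk qE (by
    change qE ≫ fold π ≫ h = eStr R π ≫ h
    rw [← Category.assoc, qE, side_fold, Category.id_comp])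

/-- The translated point. -/
def actPt {W : Scheme.{u}} (c : Γ(W, ⊤)) (e : W ⟶ Spec (CommRingCat.of (ERing R π))) :
    W ⟶ Spec (CommRingCat.of (ERing R π)) :=
  toSp (eLift ((pt e).comp (algebraMap R _)) (pt e (uF R π) + pt e (algebraMap R _ π) * c)
    (pt e (vF R π) + c * (2 * pt e (uF R π) + 1) + pt e (algebraMap R _ π) * c * c) (by
      have := congrArg (pt e) (eRing_rel R π)
      simp only [map_mul, map_add, map_one] at this
      simp only [RingHom.comp_apply]
      linear_combination this))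

lemma pt_actPt {W : Scheme.{u}} (c : Γ(W, ⊤)) (e : W ⟶ Spec (CommRingCat.of (ERing R π))) :
    (pt (actPt c e)).comp (algebraMap R _) = (pt e).comp (algebraMap R _) ∧
      pt (actPt c e) (uF R π) = pt e (uF R π) + pt e (algebraMap R _ π) * c ∧
      pt (actPt c e) (vF R π) =
        pt e (vF R π) + c * (2 * pt e (uF R π) + 1) + pt e (algebraMap R _ π) * c * c := by
  rw [actPt, pt_toSp]
  exact eLift_spec _ _ _ _

lemma actPt_str {W : Scheme.{u}} (c : Γ(W, ⊤)) (e : W ⟶ Spec (CommRingCat.of (ERing R π))) :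
    actPt c e ≫ eStr R π = e ≫ eStr R π :=
  pt_ext (by rw [pt_eStr, pt_eStr, (pt_actPt c e).1])

lemma pt_alg {W : Scheme.{u}} {e e' : W ⟶ Spec (CommRingCat.of (ERing R π))}
    (h' : (pt e').comp (algebraMap R _) = (pt e).comp (algebraMap R _)) (r : R) :
    pt e' (algebraMap R _ r) = pt e (algebraMap R _ r) := RingHom.congr_fun h' r

lemma comp_actPt {W W' : Scheme.{u}} (f : W' ⟶ W) (c : Γ(W, ⊤)) (e : W ⟶ Spec (CommRingCat.of (ERing R π))) :
    f ≫ actPt c e = actPt (f.appTop c) (f ≫ e) := by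
  refine pt_ext (eHom_ext ?_ ?_ ?_)
  · rw [(pt_actPt _ _).1, pt_comp, pt_comp, RingHom.comp_assoc, RingHom.comp_assoc, (pt_actPt _ _).1]
  · rw [(pt_actPt _ _).2.1, pt_comp, pt_comp, RingHom.comp_apply, (pt_actPt _ _).2.1]
    simp
  · rw [(pt_actPt _ _).2.2, pt_comp, pt_comp, RingHom.comp_apply, (pt_actPt _ _).2.2]
    simp only [map_add, map_mul, map_one, map_ofNat, RingHom.comp_apply]

lemma actPt_zero {W : Scheme.{u}} (e : W ⟶ Spec (CommRingCat.of (ERing R π))) : actPt 0 e = e :=
  pt_ext (eHom_ext (pt_actPt _ _).1 (by simp [(pt_actPt _ _).2.1]) (by simp [(pt_actPt _ _).2.2]))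

lemma actPt_add {W : Scheme.{u}} (c d : Γ(W, ⊤)) (e : W ⟶ Spec (CommRingCat.of (ERing R π))) :
    actPt (c + d) e = actPt c (actPt d e) := by
  refine pt_ext (eHom_ext ?_ ?_ ?_)
  · rw [(pt_actPt _ _).1, (pt_actPt _ _).1, (pt_actPt _ _).1]
  · rw [(pt_actPt _ _).2.1, (pt_actPt _ _).2.1, pt_alg (pt_actPt _ _).1, (pt_actPt _ _).2.1]
    ring
  · rw [(pt_actPt _ _).2.2, (pt_actPt _ _).2.2, pt_alg (pt_actPt _ _).1, (pt_actPt _ _).2.1, (pt_actPt _ _).2.2]
    ring

variable (π)

/-- The translation. -/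
def eAct : Red.Ga S ⊗ EO h π ⟶ EO h π :=
  Over.homMk (actPt (Red.gaFn (fst (Red.Ga S) (EO h π))) (snd (Red.Ga S) (EO h π)).left) (by
    change actPt _ _ ≫ eStr R π ≫ h = _
    rw [← Category.assoc, actPt_str, Category.assoc]
    exact Over.w (snd (Red.Ga S) (EO h π)))

lemma comp_eAct {T : Over S} (g : T ⟶ Red.Ga S ⊗ EO h π) :
    (g ≫ eAct π h).left =
      actPt (Red.gaFn (g ≫ fst _ _)) (g ≫ snd (Red.Ga S) (EO h π)).left := by
  rw [gaFn_comp]
  exact comp_actPt g.left _ _

lemma lift_eAct {T : Over S} (g : T ⟶ Red.Ga S) (e : T ⟶ EO h π) :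
    (lift g e ≫ eAct π h).left = actPt (Red.gaFn g) e.left := by
  rw [comp_eAct, lift_fst, lift_snd]

/-- The translation action. -/
def eAction : AlgGrp.Action (Red.Ga S) (EO h π) where
  act := eAct π h
  one_act := by
    apply Over.OverMorphism.ext
    rw [comp_eAct, whiskerRight_fst, whiskerRight_snd, leftUnitor_hom]
    have : fst (𝟙_ (Over S)) (EO h π) ≫ η[Red.Ga S] = 1 := by
      rw [Hom.one_def]
      exact congrArg (· ≫ _) (toUnit_unique _ _)
    rw [this, gaFn_one, actPt_zero]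
  mul_act := by
    apply Over.OverMorphism.ext
    rw [comp_eAct, whiskerRight_fst, whiskerRight_snd]
    conv_rhs => rw [← Category.assoc, comp_eAct]
    have e1 : ((α_ (Red.Ga S) (Red.Ga S) (EO h π)).hom ≫ Red.Ga S ◁ eAct π h) ≫ fst _ _ = fst _ _ ≫ fst _ _ := by
      rw [Category.assoc, whiskerLeft_fst, associator_hom_fst]
    have e2 : ((α_ (Red.Ga S) (Red.Ga S) (EO h π)).hom ≫ Red.Ga S ◁ eAct π h) ≫ snd _ _ =
        ((α_ (Red.Ga S) (Red.Ga S) (EO h π)).hom ≫ snd _ _) ≫ eAct π h := by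
      rw [Category.assoc, whiskerLeft_snd, Category.assoc]
    rw [e1, e2, comp_eAct]
    simp only [Category.assoc, associator_hom_snd_fst, associator_hom_snd_snd]
    have : μ[Red.Ga S] = fst (Red.Ga S) (Red.Ga S) * snd _ _ := by
      rw [Hom.mul_def, lift_fst_snd, Category.id_comp]
    rw [this, MonObj.comp_mul, gaFn_mul, actPt_add]

variable {π}

lemma qE_actPt {W : Scheme.{u}} (c : Γ(W, ⊤)) (e : W ⟶ Spec (CommRingCat.of (ERing R π))) :
    actPt c e ≫ qE = e ≫ qE := by
  rw [comp_qE, comp_qE]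
  have hs := eSides (actPt c e)
  have hr := actPt_str c e
  refine (comp_side (eSides (actPt c e)) (𝟙 W) (by rw [Category.id_comp, hr]) rfl rfl
    ⟨hs.cover, fun x h₁ h₂ => hr ▸ hs.inter x h₁ h₂⟩ |> fun hh => (Category.id_comp _).symm.trans hh).trans
    (side_congr _ (eSides e) fun x => ?_)
  by_cases hπ : (e ≫ eStr R π) x ∈ Dπ π
  · exact Or.inl hπ
  refine Or.inr ?_
  rw [mem_Dπ, pt_eStr] at hπ
  let ε := (W.presheaf.germ ⊤ x trivial).hom
  have hn : ¬ IsUnit (ε (pt e (algebraMap R _ π)) * ε c) := fun hu => hπ (isUnit_of_mul_isUnit_left hu)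
  have key : ∀ a : W.presheaf.stalk x, IsUnit a → IsUnit (a + ε (pt e (algebraMap R _ π)) * ε c) := fun a ha => by
    by_contra hc
    have h2 : -(ε (pt e (algebraMap R _ π)) * ε c) ∈ nonunits (W.presheaf.stalk x) :=
      fun hu => hn ((IsUnit.neg_iff _).1 hu)
    refine IsLocalRing.nonunits_add hc h2 ?_
    rw [add_neg_cancel_right]
    exact ha
  rcases (eSides e).cover x with hx | hx
  · refine Or.inl ⟨?_, hx⟩
    change x ∈ W.basicOpen _
    rw [mem_basicOpen_iff] at hx ⊢
    rw [(pt_actPt c e).2.1, map_add, map_add, map_mul, map_one]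
    rw [map_add, map_one] at hx
    rw [add_right_comm]
    exact key _ hx
  · refine Or.inr ⟨?_, hx⟩
    change x ∈ W.basicOpen _
    rw [mem_basicOpen_iff] at hx ⊢
    rw [(pt_actPt c e).2.1, map_add, map_mul]
    exact key _ hx

lemma existsUnique_actPt {W : Scheme.{u}} (e e' : W ⟶ Spec (CommRingCat.of (ERing R π)))
    (he : e' ≫ qE = e ≫ qE) : ∃! c, actPt c e = e' := by
  rw [comp_qE, comp_qE] at he
  obtain ⟨hr, hsep⟩ := side_inj (eSides e') (eSides e) he
  obtain ⟨-, hsep'⟩ := side_inj (eSides e) (eSides e') he.symm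
  have hρ : (pt e').comp (algebraMap R _) = (pt e).comp (algebraMap R _) := by
    rw [← pt_eStr, ← pt_eStr, hr]
  set P := pt e (algebraMap R _ π) with hP
  set a := pt e (uF R π)
  set b := pt e (vF R π)
  set a' := pt e' (uF R π)
  set b' := pt e' (vF R π)
  have e1 : a * (a + 1) = P * b := by
    have := congrArg (pt e) (eRing_rel R π)
    simpa [a, b, P] using this
  have e2 : a' * (a' + 1) = P * b' := by
    have := congrArg (pt e') (eRing_rel R π)
    simp only [map_mul, map_add, map_one, pt_alg hρ] at this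
    exact this
  obtain ⟨c, hc₁, hc₂⟩ := exists_div_of_cover (p := P) (w := a + a' + 1) (a := a' - a) (b := b' - b)
    (by linear_combination e1 - e2) fun x => by
      by_cases hπ : x ∈ W.basicOpen P
      · exact Or.inl hπ
      refine Or.inr ?_
      rw [mem_basicOpen_iff] at hπ ⊢
      obtain ⟨ε, hε⟩ : ∃ ε, ε = (W.presheaf.germ ⊤ x trivial).hom := ⟨_, rfl⟩
      have hx₁ : ¬ (IsUnit (ε a' + 1) ∧ IsUnit (ε a)) := fun hh => hπ (by
        have := hsep x (by rw [mem_basicOpen_iff, ← hε, map_add, map_one]; exact hh.1) (mem_basicOpen_iff.2 (hε ▸ hh.2))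
        rwa [mem_Dπ, pt_eStr, hρ] at this)
      have hx₂ : ¬ (IsUnit (ε a + 1) ∧ IsUnit (ε a')) := fun hh => hπ (by
        have := hsep' x (by rw [mem_basicOpen_iff, ← hε, map_add, map_one]; exact hh.1) (mem_basicOpen_iff.2 (hε ▸ hh.2))
        rwa [mem_Dπ, pt_eStr] at this)
      rw [← hε] at hπ ⊢
      rw [map_add, map_add, map_one]
      by_contra hw
      by_cases ha : IsUnit (ε a)
      · have := not_unit_add_one (a := ε a') fun h' => hx₁ ⟨h', ha⟩
        have h1 : ¬ IsUnit (ε a + 1) := fun h' => hx₂ ⟨h', this⟩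
        have h2 : ¬ IsUnit (ε a' + 1) := fun h' => hx₁ ⟨h', ha⟩
        refine IsLocalRing.nonunits_add (IsLocalRing.nonunits_add h1 h2) (fun hu => hw ((IsUnit.neg_iff _).1 hu)) ?_
        ring_nf
        exact isUnit_one
      · have h1 : IsUnit (ε a + 1) := by
          by_contra h'
          exact ha (not_unit_add_one h')
        have h2 : ¬ IsUnit (ε a') := fun h' => hx₂ ⟨h1, h'⟩
        refine IsLocalRing.nonunits_add (IsLocalRing.nonunits_add ha h2) (fun hu => hw ((IsUnit.neg_iff _).1 hu)) ?_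
        ring_nf
        exact isUnit_one.neg
  refine ⟨c, pt_ext (eHom_ext ((pt_actPt c e).1.trans hρ.symm) ?_ ?_), fun d hd => ?_⟩
  · rw [(pt_actPt c e).2.1]
    change a + P * c = a'
    linear_combination hc₁
  · rw [(pt_actPt c e).2.2]
    change b + c * (2 * a + 1) + P * c * c = b'
    linear_combination c * hc₁ + hc₂
  · have d1 : a + P * d = a' := by rw [← (pt_actPt d e).2.1, hd]
    have d2 : b + d * (2 * a + 1) + P * d * d = b' := by rw [← (pt_actPt d e).2.2, hd]
    have h1 : P * (d - c) = 0 := by linear_combination d1 - hc₁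
    have h2 : (2 * a + 1) * (d - c) = 0 := by linear_combination d2 - c * hc₁ - hc₂ - (d + c) * h1
    linear_combination (2 * a + 1) * h2 - 4 * b * h1 - 4 * (d - c) * e1

variable (π)

lemma eAct_qO : eAct π h ≫ qO h = snd (Red.Ga S) (EO h π) ≫ qO h :=
  Over.OverMorphism.ext (qE_actPt _ _)

lemma eCart : IsPullback (eAct π h) (snd (Red.Ga S) (EO h π)) (qO h) (qO h) := by
  have key : ∀ s : PullbackCone (qO h (π := π)) (qO h), ∃ g : s.pt ⟶ Red.Ga S,
      lift g s.snd ≫ eAct π h = s.fst ∧ ∀ g', lift g' s.snd ≫ eAct π h = s.fst → g' = g := fun s => by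
    obtain ⟨c, hc, huniq⟩ := existsUnique_actPt s.snd.left s.fst.left
      (congrArg (fun k => Over.Hom.left k) s.condition)
    obtain ⟨g, hg⟩ := gaFn_surjective (X := s.pt) c
    refine ⟨g, Over.OverMorphism.ext ?_, fun g' hg' => gaFn_injective ?_⟩
    · rw [lift_eAct, hg]
      exact hc
    · rw [hg]
      exact huniq _ ((lift_eAct π h g' s.snd).symm.trans (congrArg (fun k => Over.Hom.left k) hg'))
  refine IsPullback.of_isLimit' ⟨eAct_qO π h⟩
    (PullbackCone.IsLimit.mk _ (fun s => lift (key s).choose s.snd) (fun s => (key s).choose_spec.1)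
      (fun s => lift_snd _ _) fun s m h₁ h₂ => ?_)
  have hm : m = lift (m ≫ fst _ _) s.snd := by rw [← h₂, ← comp_lift, lift_fst_snd, Category.comp_id]
  rw [hm] at h₁ ⊢
  rw [(key s).choose_spec.2 _ h₁]

/-- The torsor. -/
def xi : (AlgSt.BG Scheme.fppfPrecoverage (Red.Ga S)).obj where
  base := LO h π
  P := EO h π
  act := eAction π h
  π := qO h
  cart := eCart π h
  loc := by
    have h0 : (0 : R) * (0 + 1) = 0 := by simp
    have h1 : (-1 : R) * (-1 + 1) = 0 := by simp
    let s : ∀ (a : R) (ha : a * (a + 1) = 0), Spec (CommRingCat.of R) ⟶ Spec (CommRingCat.of (ERing R π)) :=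
      fun a ha => Spec.map (CommRingCat.ofHom (eLift (RingHom.id R) a 0 (by rw [ha, mul_zero])))
    have hs : ∀ a ha, s a ha ≫ eStr R π = 𝟙 _ := fun a ha => by
      rw [← Spec.map_comp, ← CommRingCat.ofHom_comp, (eLift_spec (π := π) (RingHom.id R) a 0 _).1, CommRingCat.ofHom_id, Spec.map_id]
    have hu : ∀ a ha, pt (s a ha) (uF R π) = pt (𝟙 (Spec (CommRingCat.of R))) a := fun a ha => by
      rw [← Category.id_comp (s a ha), pt_comp_map, RingHom.comp_apply, (eLift_spec (π := π) (RingHom.id R) a 0 _).2.1]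
    have hL : s 0 h0 ≫ qE = inL π := by
      refine (side_eq_inL (eSides (𝟙 _)) _ fun x => Or.inl ?_).trans (by rw [Category.id_comp, ← Category.assoc, hs 0 h0, Category.id_comp])
      rw [apply_mem_basicOpen_iff, mem_basicOpen_iff, map_add, map_one, ← pt_eq]
      rw [hu 0 h0, map_zero, zero_add, map_one]
      exact isUnit_one
    have hR : s (-1) h1 ≫ qE = inR π := by
      refine (side_eq_inR (eSides (𝟙 _)) _ fun x => Or.inl ?_).trans (by rw [Category.id_comp, ← Category.assoc, hs (-1) h1, Category.id_comp])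
      rw [apply_mem_basicOpen_iff, mem_basicOpen_iff, ← pt_eq]
      rw [hu (-1) h1, map_neg, map_one, map_neg, map_one]
      exact isUnit_one.neg
    let f : ULift.{u + 1} Bool → (Spec (CommRingCat.of R) ⟶ DL π) := fun b => bif b.down then inL π else inR π
    refine ⟨Presieve.ofArrows _ f, ?_, ?_⟩
    · rw [Scheme.fppfPrecoverage, Scheme.ofArrows_mem_precoverage_iff]
      refine ⟨fun x => ?_, fun b => ?_⟩
      · obtain ⟨k, y, rfl⟩ := Scheme.IsLocallyDirected.ι_jointly_surjective (span (away π) (away π)) x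
        match k with
        | none =>
          refine ⟨⟨true⟩, away π y, ?_⟩
          exact (congrArg (fun g => g y) (colimit.w (span (away π) (away π)) WalkingSpan.Hom.fst) :)
        | some .left => exact ⟨⟨true⟩, y, rfl⟩
        | some .right => exact ⟨⟨false⟩, y, rfl⟩
      · obtain ⟨b⟩ := b
        cases b
        · exact ⟨(inferInstance : Flat (inR π)), (inferInstance : LocallyOfFinitePresentation (inR π))⟩
        · exact ⟨(inferInstance : Flat (inL π)), (inferInstance : LocallyOfFinitePresentation (inL π))⟩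
    · rintro _ _ ⟨⟨b⟩⟩
      cases b
      · exact ⟨s (-1) h1, hR⟩
      · exact ⟨s 0 h0, hL⟩
  φ := toUnit _
  eqv := toUnit_unique _ _

end Torsor

end Groth.Agent.H14Ga
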