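import Mathlib.AlgebraicGeometry.Limits
import Mathlib.AlgebraicGeometry.GammaSpecAdjunction
import Mathlib.RingTheory.Localization.Away.Basic

/-!
# The spectrum of a ring with the locus where an element vanishes doubled
-/

set_option autoImplicit false
set_option backward.isDefEq.respectTransparency false
set_option backward.isDefEq.respectTransparency.types false

universe u

open CategoryTheory CategoryTheory.Limits AlgebraicGeometry

noncomputable section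

namespace Groth.Agent.H14Ga

variable {R : Type u} [CommRing R] (π : R)

/-- The morphism from the locus where `π` is invertible. -/
abbrev away : Spec (CommRingCat.of (Localization.Away π)) ⟶ Spec (CommRingCat.of R) :=
  Spec.map (CommRingCat.ofHom (algebraMap R (Localization.Away π)))

instance : IsOpenImmersion (away π) :=
  IsOpenImmersion.of_isLocalization π

/-- The locus where `π` is invertible. -/
abbrev Dπ : (Spec (CommRingCat.of R)).Opens :=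
  (Spec (CommRingCat.of R)).basicOpen ((Scheme.ΓSpecIso (CommRingCat.of R)).inv π)

lemma range_away : Set.range (away π) = (Dπ π : Set (Spec (CommRingCat.of R))) := by
  rw [Dπ, basicOpen_eq_of_affine]
  exact PrimeSpectrum.localization_away_comap_range (Localization.Away π) π

/-- `Spec R` with the locus `V(π)` doubled. -/
abbrev DL : Scheme.{u} := pushout (away π) (away π)

/-- The first chart. -/
abbrev inL : Spec (CommRingCat.of R) ⟶ DL π := pushout.inl _ _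

/-- The second chart. -/
abbrev inR : Spec (CommRingCat.of R) ⟶ DL π := pushout.inr _ _

/-- The map folding the two charts. -/
abbrev fold : DL π ⟶ Spec (CommRingCat.of R) := pushout.desc (𝟙 _) (𝟙 _) rfl

lemma range_of_inL_eq_inR {a b : Spec (CommRingCat.of R)} (e : inL π a = inR π b) : a ∈ Dπ π := by
  obtain ⟨k, fi, fj, x, hx, -⟩ := (Scheme.IsLocallyDirected.ι_eq_ι_iff (F := span (away π) (away π))
    (i := WalkingSpan.left) (j := WalkingSpan.right)).1 e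
  match k, fi, fj, x, hx with
  | none, .init _, _, x, hx => exact (range_away π).le ⟨x, hx⟩
  | some .left, _, fj, _, _ => nomatch fj
  | some .right, fi, _, _, _ => nomatch fi

variable {π}

/-- Two maps into the charts agree over the locus where `π` is invertible. -/
lemma comp_inL_eq_inR {W : Scheme.{u}} (a : W ⟶ Spec (CommRingCat.of R)) (ha : ∀ x, a x ∈ Dπ π) :
    a ≫ inL π = a ≫ inR π := by
  have hr : Set.range a ⊆ Set.range (away π) := by
    rintro _ ⟨x, rfl⟩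
    exact (range_away π).ge (ha x)
  rw [← IsOpenImmersion.lift_fac (away π) a hr, Category.assoc, Category.assoc]
  exact congrArg _ pushout.condition

variable {Y W : Scheme.{u}}

/-- Two opens covering a scheme over `Spec R`, meeting only over the locus where `π` is invertible. -/
structure Sides (r : Y ⟶ Spec (CommRingCat.of R)) (π : R) (V₁ V₂ : Y.Opens) : Prop where
  cover : ∀ x, x ∈ V₁ ∨ x ∈ V₂
  inter : ∀ x, x ∈ V₁ → x ∈ V₂ → r x ∈ Dπ π

variable {r : Y ⟶ Spec (CommRingCat.of R)} {V₁ V₂ V₁' V₂' : Y.Opens}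

lemma exists_map (h : Sides r π V₁ V₂) :
    ∃ m : Y ⟶ DL π, V₁.ι ≫ m = V₁.ι ≫ r ≫ inL π ∧ V₂.ι ≫ m = V₂.ι ≫ r ≫ inR π := by
  let V : ULift.{u} Bool → Y.Opens := fun b => bif b.down then V₁ else V₂
  let 𝒰 : Y.OpenCover := Y.openCoverOfIsOpenCover V (top_unique fun x _ =>
    TopologicalSpace.Opens.mem_iSup.2 ((h.cover x).elim (fun hx => ⟨⟨true⟩, hx⟩) fun hx => ⟨⟨false⟩, hx⟩))
  let f : ∀ b, 𝒰.X b ⟶ DL π := fun b =>
    (V b).ι ≫ r ≫ bif b.down then inL π else inR π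
  have hf : ∀ b c, pullback.fst (𝒰.f b) (𝒰.f c) ≫ f b = pullback.snd (𝒰.f b) (𝒰.f c) ≫ f c := by
    intro b c
    change pullback.fst (V b).ι (V c).ι ≫ (V b).ι ≫ r ≫ _ =
      pullback.snd (V b).ι (V c).ι ≫ (V c).ι ≫ r ≫ _
    rw [pullback.condition_assoc (f := (V b).ι) (g := (V c).ι)]
    have hin : ∀ z, (pullback.snd (V b).ι (V c).ι ≫ (V c).ι) z ∈ V b ∧
        (pullback.snd (V b).ι (V c).ι ≫ (V c).ι) z ∈ V c := fun z =>
      ⟨by rw [← pullback.condition]; exact (pullback.fst (V b).ι (V c).ι z).2, (pullback.snd (V b).ι (V c).ι z).2⟩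
    obtain ⟨b⟩ := b
    obtain ⟨c⟩ := c
    cases b <;> cases c
    · rfl
    · simp only [← Category.assoc]
      refine (comp_inL_eq_inR _ ?_).symm
      exact fun z => h.inter _ (hin z).2 (hin z).1
    · simp only [← Category.assoc]
      refine comp_inL_eq_inR _ ?_
      exact fun z => h.inter _ (hin z).1 (hin z).2
    · rfl
  exact ⟨𝒰.glueMorphisms f hf, 𝒰.ι_glueMorphisms f hf ⟨true⟩, 𝒰.ι_glueMorphisms f hf ⟨false⟩⟩

/-- The map to the doubled spectrum defined by two sides. -/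
def side (h : Sides r π V₁ V₂) : Y ⟶ DL π := (exists_map h).choose

lemma side_eq_inL (h : Sides r π V₁ V₂) (g : W ⟶ Y) (hg : ∀ x, g x ∈ V₁ ∨ r (g x) ∈ Dπ π) :
    g ≫ side h = g ≫ r ≫ inL π := by
  refine Scheme.hom_ext_of_forall _ _ fun x => ?_
  have lift₁ : ∀ O : W.Opens, (∀ y : O, g y.1 ∈ V₁) → O.ι ≫ g ≫ side h = O.ι ≫ g ≫ r ≫ inL π := fun O hO => by
    have hr : Set.range (O.ι ≫ g) ⊆ Set.range V₁.ι := by
      rintro _ ⟨y, rfl⟩
      exact V₁.range_ι.ge (hO y)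
    rw [← Category.assoc, ← Category.assoc O.ι g, ← IsOpenImmersion.lift_fac V₁.ι (O.ι ≫ g) hr, Category.assoc, Category.assoc]
    exact congrArg _ (exists_map h).choose_spec.1
  by_cases hx : g x ∈ V₁
  · exact ⟨g ⁻¹ᵁ V₁, hx, lift₁ _ fun y => y.2⟩
  refine ⟨g ⁻¹ᵁ (V₂ ⊓ r ⁻¹ᵁ Dπ π), ⟨(h.cover _).resolve_left hx, (hg x).resolve_left hx⟩, ?_⟩
  set O := g ⁻¹ᵁ (V₂ ⊓ r ⁻¹ᵁ Dπ π)
  have hr : Set.range (O.ι ≫ g) ⊆ Set.range V₂.ι := by
    rintro _ ⟨y, rfl⟩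
    exact V₂.range_ι.ge y.2.1
  rw [← Category.assoc, ← IsOpenImmersion.lift_fac V₂.ι (O.ι ≫ g) hr, Category.assoc, side,
    (exists_map h).choose_spec.2, IsOpenImmersion.lift_fac_assoc, Category.assoc]
  simp only [← Category.assoc]
  refine (comp_inL_eq_inR _ ?_).symm
  exact fun y => y.2.2

lemma side_eq_inR (h : Sides r π V₁ V₂) (g : W ⟶ Y) (hg : ∀ x, g x ∈ V₂ ∨ r (g x) ∈ Dπ π) :
    g ≫ side h = g ≫ r ≫ inR π := by
  refine Scheme.hom_ext_of_forall _ _ fun x => ?_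
  by_cases hx : g x ∈ V₂
  · refine ⟨g ⁻¹ᵁ V₂, hx, ?_⟩
    have hr : Set.range ((g ⁻¹ᵁ V₂).ι ≫ g) ⊆ Set.range V₂.ι := by
      rintro _ ⟨y, rfl⟩
      exact V₂.range_ι.ge y.2
    rw [← Category.assoc, ← IsOpenImmersion.lift_fac V₂.ι ((g ⁻¹ᵁ V₂).ι ≫ g) hr, Category.assoc, side,
      (exists_map h).choose_spec.2, IsOpenImmersion.lift_fac_assoc, Category.assoc]
  refine ⟨g ⁻¹ᵁ (r ⁻¹ᵁ Dπ π), (hg x).resolve_left hx, ?_⟩
  set O := g ⁻¹ᵁ (r ⁻¹ᵁ Dπ π)
  rw [← Category.assoc, side_eq_inL h (O.ι ≫ g) fun y : O => Or.inr y.2, Category.assoc]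
  simp only [← Category.assoc]
  refine comp_inL_eq_inR _ ?_
  exact fun y => y.2

lemma ι_side_eq_inL (h : Sides r π V₁ V₂) (O : Y.Opens) (hO : ∀ x ∈ O, x ∈ V₁ ∨ r x ∈ Dπ π) :
    O.ι ≫ side h = O.ι ≫ r ≫ inL π :=
  side_eq_inL h O.ι fun y : O => hO y.1 y.2

lemma ι_side_eq_inR (h : Sides r π V₁ V₂) (O : Y.Opens) (hO : ∀ x ∈ O, x ∈ V₂ ∨ r x ∈ Dπ π) :
    O.ι ≫ side h = O.ι ≫ r ≫ inR π :=
  side_eq_inR h O.ι fun y : O => hO y.1 y.2

lemma side_fold (h : Sides r π V₁ V₂) : side h ≫ fold π = r := by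
  refine Scheme.hom_ext_of_forall _ _ fun x => ?_
  rcases h.cover x with hx | hx
  · refine ⟨V₁, hx, ?_⟩
    rw [← Category.assoc, ι_side_eq_inL h V₁ fun y hy => Or.inl hy]
    simp
  · refine ⟨V₂, hx, ?_⟩
    rw [← Category.assoc, ι_side_eq_inR h V₂ fun y hy => Or.inl hy]
    simp

lemma side_congr (h : Sides r π V₁ V₂) (h' : Sides r π V₁' V₂')
    (he : ∀ x, r x ∈ Dπ π ∨ (x ∈ V₁ ∧ x ∈ V₁') ∨ (x ∈ V₂ ∧ x ∈ V₂')) : side h = side h' := by
  refine Scheme.hom_ext_of_forall _ _ fun x => ?_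
  rcases he x with hx | hx | hx
  · exact ⟨r ⁻¹ᵁ Dπ π, hx, (ι_side_eq_inL h _ fun y hy => Or.inr hy).trans (ι_side_eq_inL h' _ fun y hy => Or.inr hy).symm⟩
  · exact ⟨V₁ ⊓ V₁', hx, (ι_side_eq_inL h (V₁ ⊓ V₁') fun y hy => Or.inl hy.1).trans (ι_side_eq_inL h' (V₁ ⊓ V₁') fun y hy => Or.inl hy.2).symm⟩
  · exact ⟨V₂ ⊓ V₂', hx, (ι_side_eq_inR h (V₂ ⊓ V₂') fun y hy => Or.inl hy.1).trans (ι_side_eq_inR h' (V₂ ⊓ V₂') fun y hy => Or.inl hy.2).symm⟩

lemma Sides.comp (h : Sides r π V₁ V₂) (g : W ⟶ Y) : Sides (g ≫ r) π (g ⁻¹ᵁ V₁) (g ⁻¹ᵁ V₂) :=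
  ⟨fun x => h.cover (g x), fun x => h.inter (g x)⟩

lemma comp_side (h : Sides r π V₁ V₂) (g : W ⟶ Y) {r' : W ⟶ Spec (CommRingCat.of R)} (hr : g ≫ r = r')
    {U₁ U₂ : W.Opens} (h₁ : g ⁻¹ᵁ V₁ = U₁) (h₂ : g ⁻¹ᵁ V₂ = U₂) (h' : Sides r' π U₁ U₂) :
    g ≫ side h = side h' := by
  subst hr h₁ h₂
  refine Scheme.hom_ext_of_forall _ _ fun x => ?_
  rcases h.cover (g x) with hx | hx
  · refine ⟨g ⁻¹ᵁ V₁, hx, ?_⟩
    rw [← Category.assoc, side_eq_inL h ((g ⁻¹ᵁ V₁).ι ≫ g) fun y : (g ⁻¹ᵁ V₁) => Or.inl y.2,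
      ι_side_eq_inL h' _ fun y hy => Or.inl hy]
    simp only [Category.assoc]
  · refine ⟨g ⁻¹ᵁ V₂, hx, ?_⟩
    rw [← Category.assoc, side_eq_inR h ((g ⁻¹ᵁ V₂).ι ≫ g) fun y : (g ⁻¹ᵁ V₂) => Or.inl y.2,
      ι_side_eq_inR h' _ fun y hy => Or.inl hy]
    simp only [Category.assoc]

lemma side_inj (h : Sides r π V₁ V₂) {r' : Y ⟶ Spec (CommRingCat.of R)} (h' : Sides r' π V₁' V₂')
    (he : side h = side h') : r = r' ∧ ∀ x, x ∈ V₁ → x ∈ V₂' → r x ∈ Dπ π := by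
  have hr : r = r' := by rw [← side_fold h, he, side_fold h']
  refine ⟨hr, fun x h₁ h₂ => ?_⟩
  have e₁ := congrArg (fun f => f ⟨x, h₁⟩) (ι_side_eq_inL h V₁ fun y hy => Or.inl hy)
  have e₂ := congrArg (fun f => f ⟨x, h₂⟩) (ι_side_eq_inR h' V₂' fun y hy => Or.inl hy)
  refine range_of_inL_eq_inR π (b := r x) ?_
  exact (e₁.symm.trans (congrArg (fun f => f x) he)).trans (e₂.trans (congrArg (fun f => inR π (f x)) hr.symm))

end Groth.Agent.H14Ga
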